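import Cfsg.Agent.CpAutRuFive.Main
import Cfsg.Agent.H393.Iso.Ru
import Cfsg.Agent.Prune
set_option linter.all false

-- part: H436/RuCent
section
set_option linter.all false
open scoped Cfsg.Agent.FastGrp

/-!
# Centralizers of elements of order 13 and 29 in the Rudvalis group (helper436)

With the certificate engine of `CpAutRuFive.Eng`: `|C(x)| ∣ 52` for `x` of order 13, `|C(x)| = 29` for `x` of order 29.
-/

set_option autoImplicit false
set_option maxRecDepth 100000
set_option exponentiation.threshold 5000

namespace Cfsg.Agent.H436.RuCent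

open Subgroup Cfsg Cfsg.Agent.SporadicB Cfsg.Agent.RuD.Letters Cfsg.Agent.SporRec.TCUpperCert
open Cfsg.Agent.KFacts.Ru Cfsg.Agent.KFacts.Ru.CentEng Cfsg.Agent.CpAutRuFive.Eng

/-- an element of order 29 -/
def wA : List ℕ := [0, 2, 3, 3, 5]

/-- an element of order 13 -/
def wB : List ℕ := [1, 2, 7]

/-- points adjacent to their image under `wA` -/
def MA : ℕ := 0xe6ec7120938f0b18da571669448ee6c55531ad040c541731960398c4a6090db500a6f589e7ba04d5259742900207a126f2429262c1024b6d2dca048ce9002e1c21bfc8f960572a9147ad8e8148d5e89755218b4209a594891178c56c1aa86e0b0ad644321c3330242e190a514000026248f218511622cfc5a38ed6cb1c285ba009050d9730ba1c2038be2c544b2ac1a3460a726666557e099054776dab784d38bf5d9f2a839ae884d8f2b0f730f40f5cce09af9c9df54acc5484b2c051cb72bcf6563682a90f0c3820209f71edb3b0140409034949354402842033f150c496c042af4eb320cd29a2343184cb2102eb8612c064be4d6c8026e5651919a7632c8559c49120b892915062dca6f0392ac78d16f458cb9f8216a01c652114680bb5f041a0c6c0b5d17ab7f5cc4ed4f1e82e2d689f2603d1a25364410ed81d864a209228432f6414ec64425081d61359c19495d91fc07593d1aac895e410a42f4085b14ce6a3323bb8b9688419d20e16b629d01a129085143673e111a0b548b05170fba648aaf08012cdd816b079aa876d291c7c5a70e7110a2396374036b80c2920c5810160620e96c2a82923d3300311847118635a8002d0a15741f07d6390c750864485204c352dbc798dcbd8f4ddc204511f4613b8883e8822c3215c7552a62420938f177e8d569d30458b9268c6ec669cc5010c79056df72ea46f831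

/-- points adjacent to their image under `wB` -/
def MB : ℕ := 0x79048092dc0cc8a023e8118ed918496995e541981e4e106189810290031a822414c0f8804c7e0bbb1b589447051f108b67f0e46197cc33370251502d0c788cd1826f4b60da4c2c0d51c03bde91028e2b844403405529c160454c4381901e3710802eccb91c9d08153e3c82001eb4802832e2706cbd68910a11e6d517a8113313a8746462e2852124099c10788928f812a021c4808dfa3604d612c20040464e7bb61d4ea7983a848d8365d63c0090910ba2168a68c81940900ddf8840826802e8811591f41909ba5894d5824c28402e0886a25c3081304a342165d12020c106698be8062170da3b1237200907f55d96e0d24f2b95327c20811444532130bdc28099a5425888fd623162a1620540d40c07316b12c25b20a3820b08717b2b7c6309b2302c12d1c89114800043a5d61709400712887ba47649099711700cc020c365b219608109105404c7d48582c680123bf4110779c1563202d01a64a01151e11f021907869064528250902526168f5e12906840ab014354d0fcf3017c4800e606acc23fe4a18e68894b5d2cfd8fa23081423032b104e2a10dc0148ce41d9c0221838732007cfa9e187eb213ba0431c3aaff80aecc055423ec5a4620024a00e8589014883320eeb8724300008252c1a4dd14eaed8192a2001484420b310260e03433045120030913a128fa1abd32a31842842c2bf43104516a1c93621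

/-- instructions -/
def insA : List St := [
  .cnt 0 716, .base 0 104, .and 5 1, .and 0 4, .and 0 6, .diff 0 5, .pt 0 67, .and 7 9, .and 0 12, .pt 0 3386,
  .and 9 15, .and 0 17, .pt 0 3971, .and 29 2, .and 0 4, .and 0 27, .and 0 27, .and 0 13, .and 0 9, .and 0 16,
  .pt 0 3114]

/-- instructions -/
def insB : List St := [
  .cnt 0 648, .base 0 116, .diff 5 0, .diff 0 3, .and 0 3, .and 0 6, .pt 0 1004, .diff 7 4, .diff 0 1, .pt 0 1719,
  .and 22 3, .and 0 12, .and 0 10, .and 0 12, .and 0 20, .and 0 22, .diff 0 6, .pt 0 1601, .and 33 2, .and 0 13,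
  .and 0 24, .pt 0 293, .and 18 29, .and 0 38, .and 0 10, .and 0 5, .pt 0 1326]

theorem adjA : chkAdj wA MA = true := by decide +kernel
theorem adjB : chkAdj wB MB = true := by decide +kernel
theorem runA : run wA insA [MA] = some 58 := by decide +kernel
theorem runB : run wB insB [MB] = some 52 := by decide +kernel

theorem card_A : Nat.card (Cen [wA]) ≤ 58 := by
  refine card_le_of_run (w := wA) (List.mem_singleton.2 rfl) ?_ runA
  intro m hm
  rw [List.mem_singleton] at hm
  subst hm
  exact ⟨wA, fun x hx => hx _ (List.mem_singleton.2 rfl), adjA⟩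

theorem card_B : Nat.card (Cen [wB]) ≤ 52 := by
  refine card_le_of_run (w := wB) (List.mem_singleton.2 rfl) ?_ runB
  intro m hm
  rw [List.mem_singleton] at hm
  subst hm
  exact ⟨wB, fun x hx => hx _ (List.mem_singleton.2 rfl), adjB⟩

/-- the power of a word -/
def pw (w : List ℕ) : ℕ → List ℕ
  | 0 => []
  | n + 1 => w ++ pw w n

theorem wprod_pw (w : List ℕ) (n : ℕ) : (wprod ml (pw w n) : RuOrder.H) = wprod ml w ^ n := by
  induction n with
  | zero => rw [pw, wprod_nil, pow_zero]
  | succ n ih => rw [pw, wprod_append, ih, pow_succ']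

theorem orderOf_word {w : List ℕ} {p : ℕ} (hp : p.Prime) (h : chkEq (pw w p) [] = true)
    (hne : Nat.beq (evalK w 1) 1 = false) : orderOf (wprod ml w : RuOrder.H) = p := by
  have : Fact p.Prime := ⟨hp⟩
  apply orderOf_eq_prime
  · have h1 := eq_of_chkEq h
    rwa [wprod_pw, wprod_nil] at h1
  · intro h1
    have h2 := evalK_eq w ⟨1, by norm_num⟩
    rw [h1] at h2
    have h3 : evalK w 1 = 1 := h2.symm
    rw [h3] at hne
    exact absurd hne (by decide)

theorem chkA : chkEq (pw wA 29) [] = true := by decide +kernel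
theorem chkB : chkEq (pw wB 13) [] = true := by decide +kernel
theorem neA : Nat.beq (evalK wA 1) 1 = false := by decide +kernel
theorem neB : Nat.beq (evalK wB 1) 1 = false := by decide +kernel

theorem orderA : orderOf (wprod ml wA : RuOrder.H) = 29 := orderOf_word (by norm_num) chkA neA
theorem orderB : orderOf (wprod ml wB : RuOrder.H) = 13 := orderOf_word (by norm_num) chkB neB

end Cfsg.Agent.H436.RuCent

private theorem dce_92c781a7c96a : _root_.True := by
  try have : _root_.True := by simp only [_root_.Cfsg.Agent.H436.RuCent.pw.eq_2]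
  try have : _root_.True := by simp only [_root_.Cfsg.Agent.H436.RuCent.pw.eq_1]
  try have : _root_.True := by simp only [_root_.Cfsg.Agent.H436.RuCent.pw.eq_def]
  exact _root_.True.intro
end

-- part: H148/Ru/CentSeven
section
set_option linter.all false
open scoped Cfsg.Agent.FastGrp

/-!
# The centralizer of an element of order 7 in the Rudvalis group (helper148)

With the certificate engine of `CpAutRuFive.Eng` (helper21): `|C(x)| ≤ 28` for `x` of order 7.
-/

set_option autoImplicit false
set_option maxRecDepth 100000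
set_option exponentiation.threshold 5000

namespace Cfsg.Agent.H148.Ru

open Subgroup Cfsg Cfsg.Agent.SporadicB Cfsg.Agent.RuD.Letters Cfsg.Agent.SporRec.TCUpperCert
open Cfsg.Agent.KFacts.Ru Cfsg.Agent.KFacts.Ru.CentEng Cfsg.Agent.CpAutRuFive.Eng Cfsg.Agent.H436.RuCent

/-- an element of order 7 -/
def wC : List ℕ := [3]

/-- points adjacent to their image under `wC` -/
def MC : ℕ := 0xc3c2cbe4434c600d108215e4c1ae444ce89735d60b2cdc1e424191335c05bf0206608aa28c09f0151ad90276ca63785937dc828f969e00d7db115e840c2e7359bf6da10c4b807cb801a6776eb910d3ea08ef016600ea1a60fc89f6b324252511506dca8ecf490718cdb8e8c160a7b2d682ab476f8cb24172c139168661f0303148a0415ce0f1400d76b64e4fb843223498e77328961f26e8074758149176111ca30941aaac582fc999d404051f5519e381df4088794384a054420e135c857549c77cf8922e6c8b2606646586941d82977c846a2732d022e18e1d07e26c58174da4dda55a8d8a5b4aae615d64ea241dcd1e0fb497a8a4eea42287626cb96f683c18284bc15119c8d41ac3c34e31890126765cc2cd59278ca251dc056cf231d2564380492ada0a112540550dc59e0e8ae2d64b28a89e5f808e7f3e3850cf0ecd7cd967a86167254c543280f01104a63b2509c650daa7dafcbd8634ca6ac6408bea162f9dc391df29991cd4255b8f8b2c815007179c1d0754bbb9414a5306e5cafb3dab80e654240cf4054942033586cb8e38df6df4ccd452919444c4e629c0fb3732e5eaf1eb940f443be3532135776025610b8b8f64014310402c842761b801b04002b411e9f51e5c5ce409427cd4893a534070ac20390d4b5fd24a41dbfa340799e383233d1578c44fe140443d9b4c33d909b70e4ca57470d59596b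

/-- instructions -/
def insC : List St := [
  .cnt 0 828, .base 0 192, .and 5 1, .diff 0 1, .diff 0 4, .diff 0 6, .pt 0 458, .and 0 4, .and 0 11,
  .and 0 11, .and 0 15, .diff 0 7, .diff 0 18, .and 0 21, .diff 0 8, .diff 0 19, .pt 0 32, .and 13 0,
  .and 0 2, .and 0 4, .and 0 28, .and 0 20, .and 0 9, .pt 0 10, .and 22 2, .and 0 37, .and 0 28, .and 0 18,
  .pt 0 0]

theorem adjC : chkAdj wC MC = true := by decide +kernel
theorem runC : run wC insC [MC] = some 28 := by decide +kernel

theorem card_C : Nat.card (Cen [wC]) ≤ 28 := by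
  refine card_le_of_run (w := wC) (List.mem_singleton.2 rfl) ?_ runC
  intro m hm
  rw [List.mem_singleton] at hm
  subst hm
  exact ⟨wC, fun x hx => hx _ (List.mem_singleton.2 rfl), adjC⟩

theorem chkC7 : chkEq (pw wC 7) [] = true := by decide +kernel
theorem neC : Nat.beq (evalK wC 1) 1 = false := by decide +kernel

theorem orderC : orderOf (wprod ml wC : RuOrder.H) = 7 := orderOf_word (by norm_num) chkC7 neC

end Cfsg.Agent.H148.Ru
end
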